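import Mathlib

/-!
# LEMMA SPLIT (bb #24539)

`Y` finite acting on an elementary abelian 2-group `V`, `B` a subgroup of `Y` which is a 2-group
of odd index.  If `V = K + C_V(B)` with `K` a `B`-invariant subgroup and `C_K(B) ≤ C_V(Y)`, then
the normal closure of `B` in `Y` centralises `C_V(B)`.

Proof: the relative trace (from `B` to `Y`) of the projection onto a complement of `C_K(B)` in
`C_V(B)`.
-/

namespace Cfsg.Agent.Omega.Split.Lem

section sum

variable {B : Type*} [Group B] {Ω : Type*} [MulAction B Ω] [Fintype Ω] {V : Type*}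
  [AddCommGroup V]

/-- A sum of a function constant on the orbits of a 2-group and zero on the fixed points. -/
theorem sum_inv (hB : IsPGroup 2 B) (h2 : ∀ v : V, v + v = 0) (φ : Ω → V)
    (hφ : ∀ (b : B) ω, φ (b • ω) = φ ω) (h0 : ∀ ω ∈ MulAction.fixedPoints B Ω, φ ω = 0) :
    ∑ ω, φ ω = 0 := by
  classical
  have hs := Finset.sum_comp (s := (Finset.univ : Finset Ω)) (fun v : V => v) φ
  rw [hs]
  refine Finset.sum_eq_zero fun m _ => ?_
  by_cases hm : m = 0
  · rw [hm, smul_zero]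
  let A : SubMulAction B Ω :=
    { carrier := {ω | φ ω = m}
      smul_mem' := fun b ω hω => by
        simp only [Set.mem_ofPred_eq] at hω ⊢
        rw [hφ, hω] }
  have hA : (2 : ℕ) ∣ Nat.card A := by
    haveI : Fact (Nat.Prime 2) := ⟨Nat.prime_two⟩
    have := hB.card_modEq_card_fixedPoints (α := A)
    have he : Nat.card (MulAction.fixedPoints B A) = 0 := by
      have : IsEmpty (MulAction.fixedPoints B A) := by
        refine ⟨fun ω => hm ?_⟩
        have h1 : φ (ω.1 : Ω) = m := ω.1.2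
        rw [← h1]
        refine h0 _ fun b => ?_
        have := ω.2 b
        exact congrArg Subtype.val this
      simp
    rw [he] at this
    exact (Nat.modEq_zero_iff_dvd).1 this
  have hc : (Finset.univ.filter fun ω => φ ω = m).card = Nat.card A := by
    rw [← Fintype.card_subtype, ← Nat.card_eq_fintype_card]
    rfl
  obtain ⟨k, hk⟩ := hA
  rw [hc, hk, mul_comm, mul_smul, two_nsmul, h2, smul_zero]

end sum

section main

variable {Y : Type*} [Group Y] [Finite Y] {V : Type*} [AddCommGroup V] [DistribMulAction Y V]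

/-- The function `h ↦ h • p (h⁻¹ • v)` on `Y ⧸ B`. -/
noncomputable def tf {B : Subgroup Y} (p : V →+ V) (p1 : ∀ b ∈ B, ∀ v, b • p v = p v)
    (p2 : ∀ b ∈ B, ∀ v, p (b • v) = p v) (v : V) (q : Y ⧸ B) : V :=
  Quotient.liftOn' q (fun h => h • p (h⁻¹ • v)) fun a b hab => by
    have hab := QuotientGroup.leftRel_apply.1 hab
    have h3 : b⁻¹ • v = (a⁻¹ * b)⁻¹ • (a⁻¹ • v) := by rw [smul_smul]; congr 1; group
    have h4 : b • p (a⁻¹ • v) = a • ((a⁻¹ * b) • p (a⁻¹ • v)) := by
      rw [smul_smul]; congr 1; group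
    change a • p (a⁻¹ • v) = b • p (b⁻¹ • v)
    rw [h3, p2 _ (B.inv_mem hab), h4, p1 _ hab]

omit [Finite Y] in
theorem tf_mk {B : Subgroup Y} (p : V →+ V) (p1 : ∀ b ∈ B, ∀ v, b • p v = p v)
    (p2 : ∀ b ∈ B, ∀ v, p (b • v) = p v) (v : V) (h : Y) :
    tf p p1 p2 v (h : Y ⧸ B) = h • p (h⁻¹ • v) := rfl

omit [Finite Y] in
theorem tf_smul {B : Subgroup Y} (p : V →+ V) (p1 : ∀ b ∈ B, ∀ v, b • p v = p v)
    (p2 : ∀ b ∈ B, ∀ v, p (b • v) = p v) (y : Y) (v : V) (q : Y ⧸ B) :
    tf p p1 p2 (y • v) (y • q) = y • tf p p1 p2 v q := by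
  induction q using QuotientGroup.induction_on with
  | H h =>
    rw [show y • (h : Y ⧸ B) = ((y * h : Y) : Y ⧸ B) from rfl, tf_mk, tf_mk, mul_smul,
      mul_inv_rev, mul_smul, inv_smul_smul]

open Classical in
/-- The relative trace of `p`. -/
noncomputable def tr {B : Subgroup Y} (p : V →+ V) (p1 : ∀ b ∈ B, ∀ v, b • p v = p v)
    (p2 : ∀ b ∈ B, ∀ v, p (b • v) = p v) (v : V) : V :=
  letI := Fintype.ofFinite (Y ⧸ B)
  ∑ q : Y ⧸ B, tf p p1 p2 v q

theorem tr_smul {B : Subgroup Y} (p : V →+ V) (p1 : ∀ b ∈ B, ∀ v, b • p v = p v)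
    (p2 : ∀ b ∈ B, ∀ v, p (b • v) = p v) (y : Y) (v : V) :
    tr p p1 p2 (y • v) = y • tr p p1 p2 v := by
  classical
  letI := Fintype.ofFinite (Y ⧸ B)
  unfold tr
  rw [Finset.smul_sum]
  rw [← Equiv.sum_comp (MulAction.toPerm y)]
  refine Finset.sum_congr rfl fun q _ => ?_
  rw [MulAction.toPerm_apply]
  exact tf_smul p p1 p2 y v q

theorem tr_sub {B : Subgroup Y} (p : V →+ V) (p1 : ∀ b ∈ B, ∀ v, b • p v = p v)
    (p2 : ∀ b ∈ B, ∀ v, p (b • v) = p v) (v w : V) :
    tr p p1 p2 (v - w) = tr p p1 p2 v - tr p p1 p2 w := by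
  classical
  letI := Fintype.ofFinite (Y ⧸ B)
  unfold tr
  rw [← Finset.sum_sub_distrib]
  refine Finset.sum_congr rfl fun q _ => ?_
  induction q using QuotientGroup.induction_on with
  | H h => rw [tf_mk, tf_mk, tf_mk, smul_sub, map_sub, smul_sub]

theorem tr_zero_of {B : Subgroup Y} (p : V →+ V) (p1 : ∀ b ∈ B, ∀ v, b • p v = p v)
    (p2 : ∀ b ∈ B, ∀ v, p (b • v) = p v) {v : V} (hv : ∀ y : Y, y • v = v) (hp : p v = 0) :
    tr p p1 p2 v = 0 := by
  classical
  letI := Fintype.ofFinite (Y ⧸ B)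
  unfold tr
  refine Finset.sum_eq_zero fun q _ => ?_
  induction q using QuotientGroup.induction_on with
  | H h => rw [tf_mk, hv, hp, smul_zero]

/-- (b) `p (tr x) = p x` for `x` fixed by `B`. -/
theorem p_tr {B : Subgroup Y} (hB : IsPGroup 2 B) (hi : ¬ 2 ∣ B.index)
    (h2 : ∀ v : V, v + v = 0) (p : V →+ V) (p1 : ∀ b ∈ B, ∀ v, b • p v = p v)
    (p2 : ∀ b ∈ B, ∀ v, p (b • v) = p v)
    (p3 : ∀ v, p (p v) = p v)
    (p4 : ∀ v, (∀ b ∈ B, b • v = v) → p v = 0 → ∀ y : Y, y • v = v)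
    {x : V} (hx : ∀ b ∈ B, b • x = x) : p (tr p p1 p2 x) = p x := by
  classical
  letI := Fintype.ofFinite (Y ⧸ B)
  have key : ∑ q : Y ⧸ B, (p (tf p p1 p2 x q) - p x) = 0 := by
    refine sum_inv (B := B) hB h2 _ (fun b q => ?_) fun q hq => ?_
    · congr 1
      have h1 := tf_smul p p1 p2 (b : Y) x q
      rw [hx b b.2] at h1
      have h3 : tf p p1 p2 x (b • q) = (b : Y) • tf p p1 p2 x q := h1
      rw [h3, p2 _ b.2]
    · induction q using QuotientGroup.induction_on with
      | H h =>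
        rw [tf_mk]
        have hn : ∀ b ∈ B, h⁻¹ * b * h ∈ B := fun b hb => by
          have h1 := hq ⟨b, hb⟩
          have h3 : ((b * h : Y) : Y ⧸ B) = (h : Y ⧸ B) := h1
          have h4 := (QuotientGroup.eq.1 h3)
          have h5 := B.inv_mem h4
          simpa [mul_assoc] using h5
        have hn' : ∀ b ∈ B, h * b * h⁻¹ ∈ B := by
          let f : B → B := fun b => ⟨h⁻¹ * b * h, hn b b.2⟩
          have hf : Function.Injective f := fun a c hac => by
            have := congrArg Subtype.val hac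
            simp only [f] at this
            exact Subtype.ext (mul_left_cancel (mul_right_cancel this))
          have hs : Function.Surjective f := Finite.surjective_of_injective hf
          intro b hb
          obtain ⟨a, ha⟩ := hs ⟨b, hb⟩
          have h6 : h⁻¹ * a * h = b := congrArg Subtype.val ha
          rw [← h6]
          have : h * (h⁻¹ * (a : Y) * h) * h⁻¹ = a := by group
          rw [this]
          exact a.2
        have hx' : ∀ b ∈ B, b • (h⁻¹ • x) = h⁻¹ • x := fun b hb => by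
          rw [smul_smul, show b * h⁻¹ = h⁻¹ * (h * b * h⁻¹) by group, mul_smul, hx _ (hn' b hb)]
        have hr := p4 (h⁻¹ • x - p (h⁻¹ • x)) (fun b hb => by
          rw [smul_sub, hx' b hb, p1 b hb]) (by rw [map_sub, p3, sub_self])
        have h7 : h • p (h⁻¹ • x) = x - (h⁻¹ • x - p (h⁻¹ • x)) := by
          have h8 := hr h
          rw [smul_sub, smul_inv_smul] at h8
          rw [← h8]; abel
        rw [h7, map_sub, map_sub p (h⁻¹ • x), p3, sub_self, sub_zero, sub_self]
  rw [Finset.sum_sub_distrib, Finset.sum_const, sub_eq_zero] at key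
  have h9 : p (tr p p1 p2 x) = ∑ q : Y ⧸ B, p (tf p p1 p2 x q) := by
    unfold tr
    rw [map_sum]
  rw [h9, key]
  have hc : (Finset.univ : Finset (Y ⧸ B)).card = B.index := by
    rw [Finset.card_univ, ← Nat.card_eq_fintype_card]
    rfl
  rw [hc]
  have ho : B.index % 2 = 1 := by omega
  rw [← Nat.div_add_mod B.index 2, ho, add_smul, one_smul, mul_comm, mul_smul, two_nsmul, h2,
    smul_zero, zero_add]

omit [Finite Y] in
/-- A nontrivial finite elementary abelian 2-group has nonzero fixed points under a 2-group. -/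
theorem exists_fix {B : Subgroup Y} (hB : IsPGroup 2 B) (h2 : ∀ v : V, v + v = 0) [Finite V]
    (W : AddSubgroup V) (hW : ∀ b ∈ B, ∀ w ∈ W, b • w ∈ W)
    (h : ∀ w ∈ W, (∀ b ∈ B, b • w = w) → w = 0) : W = ⊥ := by
  classical
  haveI : Fact (Nat.Prime 2) := ⟨Nat.prime_two⟩
  letI := Fintype.ofFinite W
  by_contra hne
  -- sum of the indicator function
  let A : SubMulAction B V :=
    { carrier := {v | v ∈ W}
      smul_mem' := fun b v hv => hW b b.2 v hv }
  have hcard : Nat.card A = Nat.card W := rfl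
  have hm := hB.card_modEq_card_fixedPoints (α := A)
  have h1 : Nat.card (MulAction.fixedPoints B A) = 1 := by
    rw [Nat.card_eq_one_iff_unique]
    refine ⟨⟨fun a b => ?_⟩, ⟨⟨⟨0, W.zero_mem⟩, fun b => Subtype.ext ?_⟩⟩⟩
    · have : ∀ c : MulAction.fixedPoints B A, (c.1 : V) = 0 := fun c => by
        refine h _ c.1.2 fun b hb => ?_
        exact congrArg Subtype.val (c.2 ⟨b, hb⟩)
      exact Subtype.ext (Subtype.ext ((this a).trans (this b).symm))
    · exact smul_zero (b : Y)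
  rw [hcard, h1] at hm
  obtain ⟨w, hw, hw0⟩ : ∃ w ∈ W, w ≠ 0 := by
    by_contra hall
    push Not at hall
    exact hne ((AddSubgroup.eq_bot_iff_forall W).2 hall)
  have h3 : addOrderOf (⟨w, hw⟩ : W) = 2 := by
    apply addOrderOf_eq_prime
    · rw [two_nsmul]; exact Subtype.ext (h2 w)
    · exact fun hc => hw0 (congrArg Subtype.val hc)
  have h4 : 2 ∣ Nat.card W := h3 ▸ addOrderOf_dvd_natCard _
  have h5 : Nat.card W % 2 = 1 % 2 := hm
  omega

/-- LEMMA SPLIT with the projection. -/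
theorem split_p {B : Subgroup Y} (hB : IsPGroup 2 B) (hi : ¬ 2 ∣ B.index) [Finite V]
    (h2 : ∀ v : V, v + v = 0) (p : V →+ V) (p1 : ∀ b ∈ B, ∀ v, b • p v = p v)
    (p2 : ∀ b ∈ B, ∀ v, p (b • v) = p v)
    (p3 : ∀ v, p (p v) = p v)
    (p4 : ∀ v, (∀ b ∈ B, b • v = v) → p v = 0 → ∀ y : Y, y • v = v)
    {x : V} (hx : ∀ b ∈ B, b • x = x) (y : Y) {b : Y} (hb : b ∈ B) :
    (y * b * y⁻¹) • x = x := by
  classical
  set e : V → V := tr p p1 p2 with he
  have eB : ∀ z : V, (∀ b ∈ B, b • z = z) → ∀ b ∈ B, b • e z = e z := fun z hz b hb => by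
    rw [he, ← tr_smul, hz b hb]
  have eR : ∀ z : V, (∀ b ∈ B, b • z = z) → ∀ y : Y, y • (e z - z) = e z - z := fun z hz =>
    p4 _ (fun b hb => by rw [smul_sub, eB z hz b hb, hz b hb]) (by
      rw [map_sub, he, p_tr hB hi h2 p p1 p2 p3 p4 hz, sub_self])
  have eE : ∀ z : V, (∀ b ∈ B, b • z = z) → e (e z) = e z := fun z hz => by
    have h1 : e (e z - z) = 0 := tr_zero_of p p1 p2 (eR z hz) (by
      rw [map_sub, he, p_tr hB hi h2 p p1 p2 p3 p4 hz, sub_self])
    rw [he, tr_sub, sub_eq_zero] at h1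
    exact h1
  -- the submodule on which `e` is the identity
  let F : AddSubgroup V :=
    { carrier := {v | e v = v}
      zero_mem' := by
        have := tr_sub p p1 p2 (0 : V) 0
        simpa using this
      add_mem' := fun {a c} ha hc => by
        simp only [Set.mem_ofPred_eq] at ha hc ⊢
        have h0 := tr_sub p p1 p2 (a + c) c
        rw [add_sub_cancel_right] at h0
        rw [← he] at h0
        rw [ha, hc] at h0
        exact (sub_eq_iff_eq_add.1 h0.symm)
      neg_mem' := fun {a} ha => by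
        simp only [Set.mem_ofPred_eq] at ha ⊢
        have hz : -a = a := neg_eq_of_add_eq_zero_left (h2 a)
        rw [hz, ha] }
  have hFY : ∀ (y : Y), ∀ v ∈ F, y • v ∈ F := fun y v hv => by
    change e (y • v) = y • v
    rw [he, tr_smul]
    congr 1
  have hFK : F ⊓ p.ker = ⊥ := by
    refine exists_fix hB h2 _ (fun b hb w hw => ⟨hFY b w hw.1, ?_⟩) fun w hw hwB => ?_
    · have h1 : p w = 0 := hw.2
      change p (b • w) = 0
      rw [p2 b hb, h1]
    · have h1 : p w = 0 := hw.2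
      have h3 : e w = 0 := tr_zero_of p p1 p2 (p4 w hwB h1) h1
      have h4 : e w = w := hw.1
      rw [← h4, h3]
  have hFB : ∀ v ∈ F, ∀ b ∈ B, b • v = v := fun v hv b hb => by
    have h1 : b • v - v ∈ F ⊓ p.ker := by
      refine ⟨F.sub_mem (hFY b v hv) hv, ?_⟩
      change p (b • v - v) = 0
      rw [map_sub, p2 b hb, sub_self]
    rw [hFK, AddSubgroup.mem_bot, sub_eq_zero] at h1
    exact h1
  have h1 : e x ∈ F := eE x hx
  have h3 : (y * b * y⁻¹) • e x = e x := by
    rw [mul_smul, mul_smul, hFB _ (hFY y⁻¹ _ h1) b hb, smul_inv_smul]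
  have h4 := eR x hx (y * b * y⁻¹)
  rw [smul_sub, h3, sub_right_inj] at h4
  exact h4

/-- **LEMMA SPLIT**, with the `B`-invariant subgroup `K`. -/
theorem split_K {B : Subgroup Y} (hB : IsPGroup 2 B) (hi : ¬ 2 ∣ B.index) [Finite V]
    (h2 : ∀ v : V, v + v = 0) (K : AddSubgroup V) (hKB : ∀ b ∈ B, ∀ v ∈ K, b • v ∈ K)
    (hK : ∀ v : V, ∃ c, (∀ b ∈ B, b • c = c) ∧ v - c ∈ K)
    (hR : ∀ v ∈ K, (∀ b ∈ B, b • v = v) → ∀ y : Y, y • v = v)
    {x : V} (hx : ∀ b ∈ B, b • x = x) (y : Y) {b : Y} (hb : b ∈ B) :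
    (y * b * y⁻¹) • x = x := by
  classical
  letI : Module (ZMod 2) V := AddCommGroup.zmodModule (n := 2) fun v => by rw [two_nsmul, h2]
  -- the fixed points
  let C : AddSubgroup V :=
    { carrier := {v | ∀ b ∈ B, b • v = v}
      zero_mem' := fun b _ => smul_zero b
      add_mem' := fun {a c} ha hc b hb => by rw [smul_add, ha b hb, hc b hb]
      neg_mem' := fun {a} ha b hb => by rw [smul_neg, ha b hb] }
  let Cm : Submodule (ZMod 2) V := AddSubgroup.toZModSubmodule 2 C
  let Km : Submodule (ZMod 2) V := AddSubgroup.toZModSubmodule 2 K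
  have hCK : Cm ⊔ Km = ⊤ := by
    rw [eq_top_iff]
    intro v _
    obtain ⟨c, hc, hv⟩ := hK v
    have : v = c + (v - c) := by abel
    rw [this]
    exact Submodule.add_mem_sup (show c ∈ Cm from hc) (show v - c ∈ Km from hv)
  -- a complement of `C ⊓ K` in `C`
  obtain ⟨Z, hZ⟩ := Submodule.exists_isCompl (Submodule.comap Cm.subtype Km)
  let Z' : Submodule (ZMod 2) V := Z.map Cm.subtype
  have hZC : Z' ≤ Cm := by
    rintro _ ⟨z, _, rfl⟩
    exact z.2
  have hcomp : IsCompl Z' Km := by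
    constructor
    · rw [Submodule.disjoint_def]
      rintro _ ⟨z, hz, rfl⟩ hzK
      have h1 : z ∈ (Submodule.comap Cm.subtype Km) ⊓ Z := ⟨hzK, hz⟩
      rw [hZ.inf_eq_bot, Submodule.mem_bot] at h1
      rw [h1, map_zero]
    · rw [codisjoint_iff, eq_top_iff, ← hCK]
      refine sup_le (fun c hc => ?_) le_sup_right
      have h1 : (⟨c, hc⟩ : Cm) ∈ (Submodule.comap Cm.subtype Km) ⊔ Z := by
        rw [hZ.sup_eq_top]; trivial
      obtain ⟨a, ha, z, hz, haz⟩ := Submodule.mem_sup.1 h1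
      have h3 : (a : V) + (z : V) = c := congrArg Subtype.val haz
      rw [← h3, add_comm]
      exact Submodule.add_mem_sup ⟨z, hz, rfl⟩ ha
  let P : V →ₗ[ZMod 2] V := Z'.subtype.comp (Submodule.projectionOnto Z' Km hcomp)
  have hPZ : ∀ v, P v ∈ Z' := fun v => (Submodule.projectionOnto Z' Km hcomp v).2
  have hPK : ∀ v, P v = 0 ↔ v ∈ K := fun v => by
    have h1 : P v = 0 ↔ Submodule.projectionOnto Z' Km hcomp v = 0 := by
      constructor
      · intro h; exact Subtype.ext h
      · intro h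
        change ((Submodule.projectionOnto Z' Km hcomp v : Z') : V) = 0
        rw [h]; rfl
    rw [h1, Submodule.projectionOnto_apply_eq_zero_iff]
    rfl
  have hPid : ∀ v ∈ Z', P v = v := fun v hv => by
    have := Submodule.projectionOnto_apply_left hcomp ⟨v, hv⟩
    exact congrArg Subtype.val this
  refine split_p hB hi h2 P.toAddMonoidHom (fun b hb v => ?_) (fun b hb v => ?_) (fun v => ?_)
    (fun v hv h0 => ?_) hx y hb
  · exact hZC (hPZ v) b hb
  · change P (b • v) = P v
    rw [← sub_eq_zero, ← map_sub, hPK]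
    obtain ⟨c, hc, hv⟩ := hK v
    have h1 : b • v - v = b • (v - c) - (v - c) := by rw [smul_sub, hc b hb]; abel
    rw [h1]
    exact K.sub_mem (hKB b hb _ hv) hv
  · exact hPid _ (hPZ v)
  · exact hR v ((hPK v).1 h0) hv

/-- **LEMMA SPLIT**, commutator form: if `Y` centralises `C_V(B) ∩ [V, B]`. -/
theorem split_comm {B : Subgroup Y} (hB : IsPGroup 2 B) (hi : ¬ 2 ∣ B.index) [Finite V]
    (h2 : ∀ v : V, v + v = 0)
    (hR : ∀ v ∈ AddSubgroup.closure {w : V | ∃ b ∈ B, ∃ u : V, w = b • u - u},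
      (∀ b ∈ B, b • v = v) → ∀ y : Y, y • v = v)
    {x : V} (hx : ∀ b ∈ B, b • x = x) (y : Y) {b : Y} (hb : b ∈ B) :
    (y * b * y⁻¹) • x = x := by
  classical
  letI : Module (ZMod 2) V := AddCommGroup.zmodModule (n := 2) fun v => by rw [two_nsmul, h2]
  let C : AddSubgroup V :=
    { carrier := {v | ∀ b ∈ B, b • v = v}
      zero_mem' := fun b _ => smul_zero b
      add_mem' := fun {a c} ha hc b hb => by rw [smul_add, ha b hb, hc b hb]
      neg_mem' := fun {a} ha b hb => by rw [smul_neg, ha b hb] }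
  set D : AddSubgroup V := AddSubgroup.closure {w : V | ∃ b ∈ B, ∃ u : V, w = b • u - u} with hD
  let Cm : Submodule (ZMod 2) V := AddSubgroup.toZModSubmodule 2 C
  let Dm : Submodule (ZMod 2) V := AddSubgroup.toZModSubmodule 2 D
  -- `C + D = D ⊕ Z`, `V = (C + D) ⊕ E`, `K = D ⊕ E`
  obtain ⟨E, hE⟩ := Submodule.exists_isCompl (Cm ⊔ Dm)
  have hKm : ∀ v ∈ Dm ⊔ E, (∀ b ∈ B, b • v = v) → v ∈ Dm := fun v hv hvB => by
    obtain ⟨d, hd, e, he, rfl⟩ := Submodule.mem_sup.1 hv
    have h1 : e ∈ (Cm ⊔ Dm) ⊓ E := by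
      refine ⟨?_, he⟩
      have : e = (d + e) - d := by abel
      rw [this]
      exact Submodule.sub_mem _ (Submodule.mem_sup_left (show (d + e) ∈ Cm from hvB))
        (Submodule.mem_sup_right hd)
    rw [hE.inf_eq_bot, Submodule.mem_bot] at h1
    rw [h1, add_zero]
    exact hd
  refine split_K hB hi h2 (Dm ⊔ E).toAddSubgroup (fun b hb v hv => ?_) (fun v => ?_)
    (fun v hv hvB => hR v (hKm v hv hvB) hvB) hx y hb
  · have h1 : b • v = (b • v - v) + v := by abel
    rw [h1]
    refine AddSubgroup.add_mem _ ?_ hv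
    exact Submodule.mem_sup_left (show b • v - v ∈ D from
      AddSubgroup.subset_closure ⟨b, hb, v, rfl⟩)
  · have h1 : v ∈ (Cm ⊔ Dm) ⊔ E := by rw [hE.sup_eq_top]; trivial
    rw [sup_assoc] at h1
    obtain ⟨c, hc, k, hk, rfl⟩ := Submodule.mem_sup.1 h1
    exact ⟨c, hc, by rw [add_sub_cancel_left]; exact hk⟩

end main

section group

variable {G : Type*} [Group G] [Finite G]

open Subgroup

/-- Conjugation action of `Y` on the abelian subgroup `X` it normalises. -/
@[reducible] def cact {X Y : Subgroup G} (hN : Y ≤ normalizer (X : Set G))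
    (hc : ∀ a ∈ X, ∀ c ∈ X, a * c = c * a) :
    letI : CommGroup X := { (inferInstance : Group X) with
      mul_comm := fun a c => Subtype.ext (hc a a.2 c c.2) }
    DistribMulAction Y (Additive X) :=
  letI : CommGroup X := { (inferInstance : Group X) with
      mul_comm := fun a c => Subtype.ext (hc a a.2 c c.2) }
  { smul := fun y x => Additive.ofMul ⟨(y : G) * (x.toMul : X) * (y : G)⁻¹,
      (mem_normalizer_iff.1 (hN y.2) _).1 (x.toMul : X).2⟩
    one_smul := fun x => by
      apply Additive.toMul.injective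
      apply Subtype.ext
      change ((1 : Y) : G) * _ * ((1 : Y) : G)⁻¹ = _
      simp
    mul_smul := fun a c x => by
      apply Additive.toMul.injective
      apply Subtype.ext
      change ((a * c : Y) : G) * _ * ((a * c : Y) : G)⁻¹
        = (a : G) * ((c : G) * _ * (c : G)⁻¹) * (a : G)⁻¹
      simp [mul_assoc]
    smul_zero := fun a => by
      apply Additive.toMul.injective
      apply Subtype.ext
      change (a : G) * ((1 : X) : G) * (a : G)⁻¹ = ((1 : X) : G)
      simp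
    smul_add := fun a x z => by
      apply Additive.toMul.injective
      apply Subtype.ext
      change (a : G) * (((x.toMul : X) : G) * ((z.toMul : X) : G)) * (a : G)⁻¹
        = ((a : G) * ((x.toMul : X) : G) * (a : G)⁻¹) * ((a : G) * ((z.toMul : X) : G) * (a : G)⁻¹)
      group }

/-- **LEMMA SPLIT** in a group: `Y` normalises the elementary abelian 2-group `X`, `B ≤ Y` is a
2-group of odd index in `Y`, `K ≤ X` is normalised by `B`, `X = K C_X(B)`, `C_K(B)` is centralised
by `Y`.  Then `⟨B^Y⟩` centralises `C_X(B)`. -/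
theorem split {X Y B K : Subgroup G} (hN : Y ≤ normalizer (X : Set G))
    (hc : ∀ a ∈ X, ∀ c ∈ X, a * c = c * a) (hs : ∀ a ∈ X, a * a = 1)
    (hBY : B ≤ Y) (hB : IsPGroup 2 B) (hi : ¬ 2 ∣ B.relIndex Y)
    (_hKX : K ≤ X) (hKB : ∀ b ∈ B, ∀ v ∈ K, b * v * b⁻¹ ∈ K)
    (hK : ∀ v ∈ X, ∃ c ∈ X, (∀ b ∈ B, b * c * b⁻¹ = c) ∧ v * c⁻¹ ∈ K)
    (hR : ∀ v ∈ K, (∀ b ∈ B, b * v * b⁻¹ = v) → ∀ y ∈ Y, y * v * y⁻¹ = v)
    {x : G} (hx : x ∈ X) (hxB : ∀ b ∈ B, b * x * b⁻¹ = x) {y b : G} (hy : y ∈ Y) (hb : b ∈ B) :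
    (y * b * y⁻¹) * x * (y * b * y⁻¹)⁻¹ = x := by
  classical
  letI : CommGroup X := { (inferInstance : Group X) with
      mul_comm := fun a c => Subtype.ext (hc a a.2 c c.2) }
  letI : DistribMulAction Y (Additive X) := cact hN hc
  have hsm : ∀ (y : Y) (v : Additive X), (((y • v).toMul : X) : G)
      = (y : G) * ((v.toMul : X) : G) * (y : G)⁻¹ := fun _ _ => rfl
  have hext : ∀ v w : Additive X, ((v.toMul : X) : G) = ((w.toMul : X) : G) → v = w :=
    fun v w h => Additive.toMul.injective (Subtype.ext h)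
  have hB' : IsPGroup 2 (B.subgroupOf Y) := hB.of_injective
    ((Y.subtype.comp (B.subgroupOf Y).subtype).codRestrict B fun z => mem_subgroupOf.1 z.2)
    (fun a c h => by
      have := congrArg Subtype.val h
      exact Subtype.ext (Subtype.ext this))
  let K' : AddSubgroup (Additive X) := Subgroup.toAddSubgroup (K.subgroupOf X)
  have hmK : ∀ v : Additive X, v ∈ K' ↔ ((v.toMul : X) : G) ∈ K := fun v => Iff.rfl
  have key := split_K (Y := Y) (V := Additive X) (B := B.subgroupOf Y) hB' hi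
    (fun v => hext _ _ (hs _ (v.toMul : X).2)) K'
    (fun b hb v hv => (hmK _).2 (hKB b (mem_subgroupOf.1 hb) _ hv))
    (fun v => by
      obtain ⟨c, hcX, hcB, hcK⟩ := hK _ (v.toMul : X).2
      refine ⟨Additive.ofMul ⟨c, hcX⟩, fun b hb => hext _ _ (hcB b (mem_subgroupOf.1 hb)),
        (hmK _).2 ?_⟩
      change ((v.toMul : X) : G) / c ∈ K
      rw [div_eq_mul_inv]
      exact hcK)
    (fun v hv hvB y => hext _ _ (hR _ hv (fun b hb => by
      have := hvB ⟨b, hBY hb⟩ (mem_subgroupOf.2 hb)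
      exact congrArg (fun z : Additive X => ((z.toMul : X) : G)) this) y y.2))
    (x := Additive.ofMul ⟨x, hx⟩)
    (fun b hb => hext _ _ (hxB b (mem_subgroupOf.1 hb))) ⟨y, hy⟩ (b := ⟨b, hBY hb⟩)
    (mem_subgroupOf.2 hb)
  exact congrArg (fun z : Additive X => ((z.toMul : X) : G)) key

end group

end Cfsg.Agent.Omega.Split.Lem
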